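import Mathlib.RingTheory.Flat.Basic
import Mathlib.RingTheory.Ideal.Quotient.Operations
import Mathlib.RingTheory.TensorProduct.Basic
import Mathlib.LinearAlgebra.TensorProduct.Quotient
import Mathlib.RingTheory.Finiteness.Ideal

/-!
# `H ≅ B ⊗ H` for `H` killed by a power of `I`, when `A ⧸ I ≅ B ⧸ I B`
-/

universe u

open TensorProduct

namespace Groth.Agent.LocCoh.TorsionExt

variable {A B : Type u} [CommRing A] [CommRing B] [Algebra A B] (I : Ideal A)

/-- the hypothesis `A ⧸ I ≅ B ⧸ I B` -/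
structure GlueHyp : Prop where
  surj : ∀ b : B, ∃ a : A, b - algebraMap A B a ∈ I.map (algebraMap A B)
  ker : ∀ a : A, algebraMap A B a ∈ I.map (algebraMap A B) → a ∈ I

theorem glueHyp_of (hs : Function.Surjective ((Ideal.Quotient.mk (I.map (algebraMap A B))).comp (algebraMap A B)))
    (hk : RingHom.ker ((Ideal.Quotient.mk (I.map (algebraMap A B))).comp (algebraMap A B)) = I) :
    GlueHyp (B := B) I := by
  refine ⟨fun b => ?_, fun a ha => ?_⟩
  · obtain ⟨a, ha⟩ := hs (Ideal.Quotient.mk _ b)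
    exact ⟨a, Ideal.Quotient.eq.mp ha.symm⟩
  · rw [← hk, RingHom.mem_ker, RingHom.comp_apply]
    exact Ideal.Quotient.eq_zero_iff_mem.mpr ha

variable {I} (h : GlueHyp (B := B) I)
include h

theorem GlueHyp.surj_pow : ∀ (n : ℕ) (b : B), ∃ a : A, b - algebraMap A B a ∈ (I ^ n).map (algebraMap A B)
  | 0, b => ⟨0, by simp [Ideal.map_top]⟩
  | n + 1, b => by
    obtain ⟨a, ha⟩ := GlueHyp.surj_pow n b
    have key : ∀ x ∈ (I ^ n).map (algebraMap A B), ∃ a : A,
        x - algebraMap A B a ∈ (I ^ (n + 1)).map (algebraMap A B) := by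
      intro x hx
      rw [Ideal.map] at hx
      induction hx using Submodule.span_induction with
      | mem x hx =>
        obtain ⟨c, -, rfl⟩ := hx
        exact ⟨c, by rw [sub_self]; exact zero_mem _⟩
      | zero => exact ⟨0, by simp⟩
      | add x y _ _ hx hy =>
        obtain ⟨c, hc⟩ := hx
        obtain ⟨d, hd⟩ := hy
        exact ⟨c + d, by rw [map_add, add_sub_add_comm]; exact add_mem hc hd⟩
      | smul b' x hx ih =>
        obtain ⟨c, hc⟩ := ih
        obtain ⟨e, he⟩ := h.surj b'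
        refine ⟨e * c, ?_⟩
        have h1 : (b' - algebraMap A B e) * x ∈ (I ^ (n + 1)).map (algebraMap A B) := by
          rw [pow_succ', Ideal.map_mul]
          exact Ideal.mul_mem_mul he hx
        have h2 : algebraMap A B e * (x - algebraMap A B c) ∈ (I ^ (n + 1)).map (algebraMap A B) :=
          Ideal.mul_mem_left _ _ hc
        have := add_mem h1 h2
        rw [map_mul, smul_eq_mul]
        convert this using 1
        ring
    obtain ⟨c, hc⟩ := key _ ha
    exact ⟨a + c, by rw [map_add, ← sub_sub]; exact hc⟩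

omit h in
theorem tmul_eq_zero_of_killed {M : Type u} [AddCommGroup M] [Module A M] {m : M} {J : Ideal A}
    (hm : ∀ c ∈ J, c • m = 0) : ∀ x ∈ J.map (algebraMap A B), x ⊗ₜ[A] m = 0 := by
  intro x hx
  rw [Ideal.map] at hx
  induction hx using Submodule.span_induction with
  | mem x hx =>
    obtain ⟨c, hc, rfl⟩ := hx
    rw [Algebra.algebraMap_eq_smul_one, TensorProduct.smul_tmul, hm c hc, TensorProduct.tmul_zero]
  | zero => exact TensorProduct.zero_tmul _ _
  | add x y _ _ hx hy => rw [TensorProduct.add_tmul, hx, hy, add_zero]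
  | smul b x _ hx =>
    have := congrArg (fun t => b • t) hx
    simpa [TensorProduct.smul_tmul'] using this

theorem exists_one_tmul {M : Type u} [AddCommGroup M] [Module A M] (n : ℕ) (hM : ∀ c ∈ I ^ n, ∀ m : M, c • m = 0)
    (w : B ⊗[A] M) : ∃ m : M, (1 : B) ⊗ₜ[A] m = w := by
  induction w using TensorProduct.induction_on with
  | zero => exact ⟨0, TensorProduct.tmul_zero _ _⟩
  | tmul b m =>
    obtain ⟨a, ha⟩ := h.surj_pow n b
    refine ⟨a • m, ?_⟩
    rw [← TensorProduct.smul_tmul, ← Algebra.algebraMap_eq_smul_one, eq_comm, ← sub_eq_zero,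
      ← TensorProduct.sub_tmul]
    exact tmul_eq_zero_of_killed (fun c hc => hM c hc m) _ ha
  | add x y hx hy =>
    obtain ⟨m, rfl⟩ := hx
    obtain ⟨m', rfl⟩ := hy
    exact ⟨m + m', TensorProduct.tmul_add _ _ _⟩

/-- the retraction `B → A ⧸ I` -/
theorem exists_retraction : ∃ ρ : B →ₗ[A] A ⧸ I, ρ 1 = 1 := by
  choose a ha using h.surj
  have huniq : ∀ (b : B) (c : A), b - algebraMap A B c ∈ I.map (algebraMap A B) →
      (Ideal.Quotient.mk I (a b) = Ideal.Quotient.mk I c) := fun b c hc => by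
    rw [Ideal.Quotient.eq]
    apply h.ker
    have := sub_mem hc (ha b)
    rw [map_sub]
    convert this using 1
    ring
  refine ⟨{ toFun := fun b => Ideal.Quotient.mk I (a b), map_add' := fun b b' => ?_, map_smul' := fun c b => ?_ }, ?_⟩
  · rw [← map_add]
    exact huniq _ _ (by rw [map_add, add_sub_add_comm]; exact add_mem (ha b) (ha b'))
  · show Ideal.Quotient.mk I (a (c • b)) = c • Ideal.Quotient.mk I (a b)
    exact huniq _ (c * a b) (by
      rw [map_mul, Algebra.smul_def, ← mul_sub]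
      exact Ideal.mul_mem_left _ _ (ha b))
  · show Ideal.Quotient.mk I (a 1) = 1
    exact (huniq 1 1 (by rw [map_one, sub_self]; exact zero_mem _)).trans (map_one _)

variable [Module.Flat A B]

theorem injective_one_tmul : ∀ (n : ℕ) {M : Type u} [AddCommGroup M] [Module A M],
    (∀ c ∈ I ^ n, ∀ m : M, c • m = 0) → ∀ m : M, (1 : B) ⊗ₜ[A] m = 0 → m = 0
  | 0, M, _, _, hM, m, _ => by simpa using hM 1 (by simp) m
  | n + 1, M, _, _, hM, m, hm => by
    let M' : Submodule A M := I • ⊤
    have hM' : ∀ c ∈ I ^ n, ∀ x : M', c • x = 0 := by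
      intro c hc x
      apply Subtype.ext
      show c • (x : M) = 0
      refine Submodule.smul_induction_on x.2 (fun a ha y _ => ?_) (fun y z hy hz => by rw [smul_add, hy, hz, add_zero])
      rw [← mul_smul]
      exact hM _ (by rw [pow_succ]; exact Ideal.mul_mem_mul hc ha) y
    obtain ⟨ρ, hρ⟩ := exists_retraction h
    let Φ : (B ⊗[A] M) →ₗ[A] ((A ⧸ I) ⊗[A] M) := ρ.rTensor M
    have h1 : (TensorProduct.quotTensorEquivQuotSMul M I) (Φ ((1 : B) ⊗ₜ[A] m)) = 0 := by
      rw [hm, map_zero, map_zero]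
    have hmem : m ∈ M' := by
      simp only [Φ, LinearMap.rTensor_tmul, hρ] at h1
      change (TensorProduct.quotTensorEquivQuotSMul M I) ((Ideal.Quotient.mk I 1) ⊗ₜ[A] m) = 0 at h1
      rw [TensorProduct.quotTensorEquivQuotSMul_mk_tmul, one_smul] at h1
      exact (Submodule.Quotient.mk_eq_zero _).1 h1
    have h2 : (1 : B) ⊗ₜ[A] (⟨m, hmem⟩ : M') = 0 :=
      Module.Flat.lTensor_preserves_injective_linearMap M'.subtype (Submodule.injective_subtype _)
        (by rw [LinearMap.lTensor_tmul, map_zero]; exact hm)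
    exact congrArg Subtype.val (injective_one_tmul n hM' ⟨m, hmem⟩ h2)

section Complex

variable {X Y Z : Type u} [AddCommGroup X] [Module A X] [AddCommGroup Y] [Module A Y] [AddCommGroup Z] [Module A Z]
  (d : X →ₗ[A] Y) (e : Y →ₗ[A] Z) (hde : e ∘ₗ d = 0) (n : ℕ)
  (hkill : ∀ c ∈ I ^ n, ∀ y ∈ LinearMap.ker e, c • y ∈ LinearMap.range d)
include hde hkill

/-- surjectivity on homology -/
theorem exists_cycle (w : B ⊗[A] Y) (hw : e.lTensor B w = 0) :
    ∃ y, e y = 0 ∧ ∃ x, d.lTensor B x = w - (1 : B) ⊗ₜ[A] y := by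
  let K := LinearMap.ker e
  obtain ⟨v, rfl⟩ := (Module.Flat.lTensor_exact B (LinearMap.exact_subtype_ker_map e) w).1 hw
  let p : K →ₗ[A] K ⧸ (LinearMap.range d).comap K.subtype := Submodule.mkQ _
  obtain ⟨m, hm⟩ := exists_one_tmul h n (M := K ⧸ (LinearMap.range d).comap K.subtype) (fun c hc m => by
    obtain ⟨k, rfl⟩ := Submodule.Quotient.mk_surjective _ m
    rw [← Submodule.Quotient.mk_smul, Submodule.Quotient.mk_eq_zero]
    exact hkill c hc k.1 k.2) (p.lTensor B v)
  obtain ⟨k, rfl⟩ := Submodule.Quotient.mk_surjective _ m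
  refine ⟨k.1, k.2, ?_⟩
  have h0 : p.lTensor B (v - (1 : B) ⊗ₜ[A] k) = 0 := by
    rw [map_sub, LinearMap.lTensor_tmul]
    exact sub_eq_zero.2 hm.symm
  let dK : X →ₗ[A] K := d.codRestrict K fun x => LinearMap.congr_fun hde x
  have hex : Function.Exact dK p := by
    intro y
    rw [show p y = 0 ↔ y ∈ (LinearMap.range d).comap K.subtype from Submodule.Quotient.mk_eq_zero _]
    exact ⟨fun ⟨x, hx⟩ => ⟨x, Subtype.ext hx⟩, fun ⟨x, hx⟩ => ⟨x, congrArg Subtype.val hx⟩⟩
  obtain ⟨x, hx⟩ := (Module.Flat.lTensor_exact B hex _).1 h0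
  refine ⟨x, ?_⟩
  have := congrArg (K.subtype.lTensor B) hx
  rw [← LinearMap.comp_apply, ← LinearMap.lTensor_comp, map_sub, LinearMap.lTensor_tmul] at this
  exact this

omit hde in
/-- injectivity on homology -/
theorem mem_range_of_one_tmul (y : Y) (hy : e y = 0) (x : B ⊗[A] X) (hx : d.lTensor B x = (1 : B) ⊗ₜ[A] y) :
    y ∈ LinearMap.range d := by
  let C := Y ⧸ LinearMap.range d
  let p : Y →ₗ[A] C := (LinearMap.range d).mkQ
  let S : Submodule A C := (LinearMap.ker e).map p
  have h0 : (1 : B) ⊗ₜ[A] (p y) = 0 := by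
    rw [← LinearMap.lTensor_tmul, ← hx, ← LinearMap.comp_apply, ← LinearMap.lTensor_comp,
      show p ∘ₗ d = 0 from LinearMap.ext fun z => (Submodule.Quotient.mk_eq_zero _).2 ⟨z, rfl⟩]
    simp
  let s : S := ⟨p y, Submodule.mem_map_of_mem (LinearMap.mem_ker.2 hy)⟩
  have h1 : (1 : B) ⊗ₜ[A] s = 0 :=
    Module.Flat.lTensor_preserves_injective_linearMap S.subtype (Submodule.injective_subtype _)
      (by rw [LinearMap.lTensor_tmul, map_zero]; exact h0)
  have h2 := injective_one_tmul h n (M := S) (fun c hc m => by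
    obtain ⟨z, hz, hzm⟩ := Submodule.mem_map.1 m.2
    apply Subtype.ext
    show c • (m : C) = 0
    rw [← hzm, ← map_smul]
    exact (Submodule.Quotient.mk_eq_zero _).2 (hkill c hc z hz)) s h1
  exact (Submodule.Quotient.mk_eq_zero _).1 (congrArg Subtype.val h2)

end Complex

end Groth.Agent.LocCoh.TorsionExt
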