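import Groth.Agent.LocCoh.TorsionExt.Algebra
import Groth.Agent.LocCoh.HDIBaseChange
import Groth.Agent.DRing.DerivedAdj
import Mathlib.CategoryTheory.Adjunction.Additive
import Mathlib.CategoryTheory.Localization.Adjunction

/-!
# `Hom(T, K) ≅ Hom(B ⊗ T, B ⊗ K)` for torsion `T`
-/

universe u

open CategoryTheory CategoryTheory.Limits CategoryTheory.Pretriangulated DerivedCategory TensorProduct

attribute [local instance] HasDerivedCategory.standard

namespace Groth.Agent.LocCoh.TorsionExt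

open Groth.Agent.DRing Groth.Agent.DRing.Homology Groth.Agent.DRing.DBasic
open HDIBaseChange (res ext')

variable (A B : Type u) [CommRing A] [CommRing B] [Algebra A B] [Module.Flat A B]

instance : PreservesFiniteLimits (ext' (A := A) (B := B)) :=
  ModuleCat.preservesFiniteLimits_extendScalars_of_flat (RingHom.flat_algebraMap_iff.mpr inferInstance)

instance : PreservesFiniteColimits (ext' (A := A) (B := B)) :=
  have := (ModuleCat.extendRestrictScalarsAdj.{u} (algebraMap A B)).leftAdjoint_preservesColimits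
  inferInstance

/-- flat base change on derived categories -/
noncomputable abbrev extD : Dual.D A ⥤ Dual.D B := (ext' (A := A) (B := B)).mapDerivedCategory

/-- restriction on derived categories -/
noncomputable abbrev resD : Dual.D B ⥤ Dual.D A := DRing.restrictD (algebraMap A B)

/-- the unit of complexes -/
noncomputable def unitCx (P : DRing.Cx A) :
    P ⟶ ((res (A := A) (B := B)).mapHomologicalComplex (ComplexShape.up ℤ)).obj
      (((ext' (A := A) (B := B)).mapHomologicalComplex (ComplexShape.up ℤ)).obj P) where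
  f n := (ModuleCat.extendRestrictScalarsAdj.{u} (algebraMap A B)).unit.app (P.X n)
  comm' i j _ := ((ModuleCat.extendRestrictScalarsAdj.{u} (algebraMap A B)).unit.naturality (P.d i j)).symm

theorem exists_adjunction : ∃ adj : extD A B ⊣ resD A B, ∀ P : DRing.Cx A,
    QuasiIso (unitCx A B P) → IsIso (adj.unit.app (DRing.toD P)) := by
  let W₁ := HomotopyCategory.quasiIso (ModuleCat.{u} A) (ComplexShape.up ℤ)
  let W₂ := HomotopyCategory.quasiIso (ModuleCat.{u} B) (ComplexShape.up ℤ)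
  let c₁ : CatCommSq ((ext' (A := A) (B := B)).mapHomotopyCategory (ComplexShape.up ℤ))
      DerivedCategory.Qh DerivedCategory.Qh (extD A B) :=
    ⟨((ext' (A := A) (B := B)).mapDerivedCategoryFactorsh).symm⟩
  let c₂ : CatCommSq ((res (A := A) (B := B)).mapHomotopyCategory (ComplexShape.up ℤ))
      DerivedCategory.Qh DerivedCategory.Qh (resD A B) :=
    ⟨((res (A := A) (B := B)).mapDerivedCategoryFactorsh).symm⟩
  let adjK := DerivedAdj.mapHomotopyCategoryAdj (ModuleCat.extendRestrictScalarsAdj.{u} (algebraMap A B))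
  let adj := adjK.localization DerivedCategory.Qh W₁ DerivedCategory.Qh W₂ (extD A B) (resD A B)
  refine ⟨adj, fun P hP => ?_⟩
  change IsIso (adj.unit.app (DerivedCategory.Qh.obj ((HomotopyCategory.quotient _ _).obj P)))
  rw [Adjunction.localization_unit_app]
  have : IsIso (DerivedCategory.Qh.map (adjK.unit.app ((HomotopyCategory.quotient _ _).obj P))) :=
    (inferInstanceAs (IsIso (Q.map (unitCx A B P))))
  infer_instance

variable {A B}

theorem isIso_unit_of_killed (adj : extD A B ⊣ resD A B)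
    (hadj : ∀ P : DRing.Cx A, QuasiIso (unitCx A B P) → IsIso (adj.unit.app (DRing.toD P)))
    {I : Ideal A} (h : GlueHyp (B := B) I) (K : Dual.D A)
    (hK : ∀ i, ∃ n : ℕ, ∀ c ∈ I ^ n, ∀ x : Dual.HD A K i, c • x = 0) : IsIso (adj.unit.app K) := by
  let P := Q.objPreimage K
  let e : DRing.toD P ≅ K := Q.objObjPreimageIso K
  suffices IsIso (adj.unit.app (DRing.toD P)) from (NatTrans.isIso_app_iff_of_iso adj.unit e).1 this
  obtain ⟨t, ht⟩ := HDIBaseChange.exists_extT_iso (A := A) (B := B)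
  refine hadj P (quasiIso_of_bijective _ fun i => ?_)
  obtain ⟨n, hn⟩ := hK i
  have hkill : ∀ c ∈ I ^ n, ∀ y ∈ LinearMap.ker (P.d i (i + 1)).hom,
      c • y ∈ LinearMap.range (P.d (i - 1) i).hom := by
    intro c hc y hy
    let φ := (((HF i).mapIso e).symm ≪≫ hIso P i).toLinearEquiv
    have h0 : c • cls y hy = 0 := φ.symm.injective (by rw [map_smul, hn c hc, map_zero])
    exact (cls_eq_zero_iff (i - 1) (by omega) (IsCyc.smul (hy : IsCyc P i y) c)).1 ((cls_smul hy c).trans h0)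
  have hde : (P.d i (i + 1)).hom ∘ₗ (P.d (i - 1) i).hom = 0 :=
    congrArg ModuleCat.Hom.hom (P.d_comp_d (i - 1) i (i + 1))
  -- transport to the tensor product
  let τ : ∀ M : ModuleCat.{u} A, (B ⊗[A] M) ≃ (ext'.obj M : ModuleCat.{u} B) := fun M => (t.app M).toLinearEquiv.toEquiv
  have hτ0 : ∀ M : ModuleCat.{u} A, τ M 0 = 0 := fun M => map_zero (t.app M).toLinearEquiv
  have hnat : ∀ {M M' : ModuleCat.{u} A} (g : M ⟶ M') (w : B ⊗[A] M),
      (ext'.map g).hom (τ M w) = τ M' (g.hom.baseChange B w) :=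
    fun g w => (ConcreteCategory.congr_hom (t.hom.naturality g) w).symm
  constructor
  · rw [homologyMap_injective_iff _ i (i - 1) (by omega)]
    intro y w hy hyw
    obtain ⟨x, hx⟩ := (τ (P.X (i - 1))).surjective w
    refine mem_range_of_one_tmul h _ (P.d i (i + 1)).hom n hkill y hy x ((τ (P.X i)).injective ?_)
    refine (hnat (P.d (i - 1) i) x).symm.trans ?_
    rw [hx]
    exact hyw.symm.trans (ht (P.X i) y).symm
  · rw [homologyMap_surjective_iff _ i (i - 1) (by omega)]
    intro z hz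
    obtain ⟨w, rfl⟩ := (τ (P.X i)).surjective z
    have hw : (P.d i (i + 1)).hom.lTensor B w = 0 :=
      (τ (P.X (i + 1))).injective (((hnat (P.d i (i + 1)) w).symm.trans hz).trans (hτ0 _).symm)
    obtain ⟨y, hy, x, hx⟩ := exists_cycle h _ _ hde n hkill w hw
    refine ⟨y, τ (P.X (i - 1)) x, hy, ?_⟩
    change (show (ext'.obj (P.X i) : ModuleCat.{u} B) from ((ModuleCat.extendRestrictScalarsAdj.{u} (algebraMap A B)).unit.app (P.X i)).hom y) +
      (ext'.map (P.d (i - 1) i)).hom (τ (P.X (i - 1)) x) = τ (P.X i) w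
    rw [hnat, ← ht]
    refine (map_add (t.app (P.X i)).toLinearEquiv _ _).symm.trans (congrArg _ ?_)
    exact (congrArg ((1 : B) ⊗ₜ[A] y + ·) hx).trans (add_sub_cancel _ _)

/-- `G = res ∘ ext` on derived categories -/
noncomputable abbrev G : Dual.D A ⥤ Dual.D A := extD A B ⋙ resD A B

theorem G_map_smul_id (a : A) (K : Dual.D A) : (G (A := A) (B := B)).map (a • 𝟙 K) = a • 𝟙 _ := by
  let P := Q.objPreimage K
  let e : DRing.toD P ≅ K := Q.objObjPreimageIso K
  suffices h : (G (A := A) (B := B)).map (a • 𝟙 (DRing.toD P)) = a • 𝟙 _ by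
    have h1 : a • 𝟙 K = e.inv ≫ (a • 𝟙 (DRing.toD P)) ≫ e.hom := by simp
    rw [h1, Functor.map_comp, Functor.map_comp, h]
    simp [← Functor.map_comp]
  let γ : (G (A := A) (B := B)).obj (DRing.toD P) ≅ _ :=
    (resD A B).mapIso ((ext' (A := A) (B := B)).mapDerivedCategoryFactors.app P) ≪≫
      (res (A := A) (B := B)).mapDerivedCategoryFactors.app _
  rw [← cancel_mono γ.hom]
  have hnat : (G (A := A) (B := B)).map (Q.map (a • 𝟙 P)) ≫ γ.hom =
      γ.hom ≫ Q.map (((res (A := A) (B := B)).mapHomologicalComplex (ComplexShape.up ℤ)).map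
        (((ext' (A := A) (B := B)).mapHomologicalComplex (ComplexShape.up ℤ)).map (a • 𝟙 P))) := by
    simp only [γ, Iso.trans_hom, Functor.mapIso_hom, Iso.app_hom, Functor.comp_map, Category.assoc]
    rw [← Functor.map_comp_assoc, Functor.mapDerivedCategoryFactors_hom_naturality, Functor.map_comp,
      Category.assoc, Functor.mapDerivedCategoryFactors_hom_naturality]
  have hterm : ((res (A := A) (B := B)).mapHomologicalComplex (ComplexShape.up ℤ)).map
      (((ext' (A := A) (B := B)).mapHomologicalComplex (ComplexShape.up ℤ)).map (a • 𝟙 P)) = a • 𝟙 _ := by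
    refine HomologicalComplex.Hom.ext (funext fun i => ?_)
    obtain ⟨t⟩ := HDIBaseChange.nonempty_extT_iso (A := A) (B := B)
    refine ModuleCat.hom_ext (LinearMap.ext fun z => ?_)
    obtain ⟨w, rfl⟩ := (t.app (P.X i)).toLinearEquiv.surjective z
    refine (ConcreteCategory.congr_hom (t.hom.naturality (a • 𝟙 (P.X i))) w).symm.trans ?_
    have hb : ∀ w : B ⊗[A] P.X i, (a • 𝟙 (P.X i)).hom.baseChange B w = algebraMap A B a • w := fun w => by
      induction w using TensorProduct.induction_on with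
      | zero => simp
      | tmul b x => simp [algebraMap_smul]
      | add x y hx hy => simp only [map_add, smul_add, hx, hy]
    refine (congrArg (t.app (P.X i)).toLinearEquiv (hb w)).trans ?_
    exact map_smul (t.app (P.X i)).toLinearEquiv (algebraMap A B a) w
  rw [hterm, (Q (C := ModuleCat.{u} A)).map_smul, (Q (C := ModuleCat.{u} A)).map_smul, CategoryTheory.Functor.map_id,
    CategoryTheory.Functor.map_id, Linear.comp_smul] at hnat
  rw [Linear.smul_comp, Category.id_comp]
  exact hnat.trans (congrArg (a • ·) (Category.comp_id γ.hom))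

theorem HF_map_smul_id (a : A) (K : Dual.D A) (i : ℤ) (x : Dual.HD A K i) :
    ((HF i).map (a • 𝟙 K)).hom x = a • x := by
  let P := Q.objPreimage K
  let e : DRing.toD P ≅ K := Q.objObjPreimageIso K
  have hP : ∀ x : (HF i).obj (DRing.toD P), ((HF i).map (Q.map (a • 𝟙 P))).hom x = a • x := fun x => by
    rw [HF_map_Q_eq]
    let φ := (hIso P i).toLinearEquiv
    change φ.symm ((HomologicalComplex.homologyMap (a • 𝟙 P) i).hom (φ x)) = a • x
    obtain ⟨z, hz, hzx⟩ := cls_surjective (φ x)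
    rw [← hzx, homologyMap_cls]
    refine φ.injective ?_
    rw [φ.apply_symm_apply, map_smul, ← hzx, ← cls_smul hz a]
    congr 1
  have h1 : a • 𝟙 K = e.inv ≫ (a • 𝟙 (DRing.toD P)) ≫ e.hom := by simp
  rw [h1, Functor.map_comp, Functor.map_comp]
  change ((HF i).mapIso e).toLinearEquiv (((HF i).map (a • 𝟙 (DRing.toD P))).hom (((HF i).mapIso e).toLinearEquiv.symm x)) = a • x
  have h2 : a • 𝟙 (DRing.toD P) = Q.map (a • 𝟙 P) := by rw [(Q (C := ModuleCat.{u} A)).map_smul, CategoryTheory.Functor.map_id]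
  rw [h2, hP, map_smul, LinearEquiv.apply_symm_apply]

theorem killed_shift {T : Dual.D A} {a : A} (h : a • 𝟙 T = 0) (k : ℤ) :
    a • 𝟙 ((shiftFunctor (Dual.D A) k).obj T) = 0 := by
  rw [← CategoryTheory.Functor.map_id, ← Functor.map_smul, h, Functor.map_zero]

/-- cohomology of a cone of `f` is killed by `f^2` and by squares of what kills that of `K` -/
theorem smul_cone_HD {T : Triangle (Dual.D A)} (hT : T ∈ distinguishedTriangles) (i : ℤ) (a b : A)
    (ha : ∀ x : Dual.HD A T.obj₁ (i + 1), ((HF (i + 1)).map T.mor₁).hom x = 0 → a • x = 0)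
    (hb : ∀ x : Dual.HD A T.obj₂ i, ((HF i).map T.mor₂).hom (b • x) = 0) :
    ∀ x : Dual.HD A T.obj₃ i, (a * b) • x = 0 := by
  intro x
  let δ := (DerivedCategory.HomologySequence.δ T i (i + 1) rfl).hom
  have e1 := DerivedCategory.HomologySequence.exact₁ T hT i (i + 1) rfl
  have e3 := DerivedCategory.HomologySequence.exact₃ T hT i (i + 1) rfl
  rw [ShortComplex.ShortExact.moduleCat_exact_iff_function_exact] at e1 e3
  have h0 : δ (a • x) = 0 := by
    rw [map_smul]
    exact ha _ (e1.apply_apply_eq_zero x)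
  obtain ⟨y, hy⟩ := (e3 (a • x)).1 h0
  rw [mul_comm, mul_smul, ← hy, ← map_smul]
  exact hb y

variable {adj : extD A B ⊣ resD A B}

/-- composition with the unit is bijective -/
def Bij (adj : extD A B ⊣ resD A B) (T K : Dual.D A) : Prop :=
  Function.Bijective fun x : T ⟶ K => x ≫ adj.unit.app K

theorem injective_shift {T K : Dual.D A} (h : Bij adj ((shiftFunctor (Dual.D A) (-1 : ℤ)).obj T) K)
    (w : T ⟶ (shiftFunctor (Dual.D A) (1 : ℤ)).obj K)
    (hw : w ≫ (adj.unit.app K)⟦(1 : ℤ)⟧' = 0) : w = 0 := by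
  let c := (shiftFunctorCompIsoId (Dual.D A) (-1 : ℤ) 1 (by norm_num)).app T
  obtain ⟨w₀, hw₀⟩ := (shiftFunctor (Dual.D A) (1 : ℤ)).map_surjective (c.hom ≫ w)
  rw [← cancel_epi c.hom, comp_zero, ← hw₀]
  have : w₀ ≫ adj.unit.app K = 0 := (shiftFunctor (Dual.D A) (1 : ℤ)).map_injective (by
    rw [Functor.map_comp, hw₀, Category.assoc]
    exact (congrArg (c.hom ≫ ·) hw).trans (comp_zero.trans ((shiftFunctor (Dual.D A) (1 : ℤ)).map_zero _ _).symm))
  rw [show w₀ = 0 from h.1 (this.trans zero_comp.symm), Functor.map_zero]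

/-- the dévissage -/
theorem bij_of_killed (hadj : ∀ P : DRing.Cx A, QuasiIso (unitCx A B P) → IsIso (adj.unit.app (DRing.toD P)))
    (s : Finset A) (h : GlueHyp (B := B) (Ideal.span (s : Set A))) :
    ∀ (r : Finset A), r ⊆ s → ∀ (K : Dual.D A),
      (∀ g ∈ s, g ∉ r → ∀ i, ∃ n : ℕ, ∀ x : Dual.HD A K i, g ^ n • x = 0) →
      ∀ T : Dual.D A, (∀ g ∈ s, ∃ n : ℕ, g ^ n • 𝟙 T = 0) → Bij adj T K := by
  classical
  intro r
  induction r using Finset.induction with
  | empty =>
    intro _ K hK T _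
    have : IsIso (adj.unit.app K) := isIso_unit_of_killed adj hadj h K fun i => by
      obtain ⟨N, hN⟩ := Ideal.exists_pow_le_of_le_radical_of_fg
        (I := Ideal.span (s : Set A)) (J := Module.annihilator A (Dual.HD A K i))
        (Ideal.span_le.2 fun g hg => by
          obtain ⟨n, hn⟩ := hK g hg (Finset.notMem_empty g) i
          exact ⟨n, Module.mem_annihilator.2 hn⟩) ⟨s, rfl⟩
      exact ⟨N, fun c hc x => Module.mem_annihilator.1 (hN hc) x⟩
    exact ((asIso (adj.unit.app K)).homToEquiv (Z := T)).bijective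
  | insert f r hfr ih =>
    intro hsub K hK T hT
    have hfs : f ∈ s := hsub (Finset.mem_insert_self f r)
    obtain ⟨n, hn⟩ := hT f hfs
    -- a cone of `f ^ n` on an arbitrary object
    have step : ∀ L : Dual.D A, (∀ g ∈ s, g ∉ insert f r → ∀ i, ∃ m : ℕ, ∀ x : Dual.HD A L i, g ^ m • x = 0) →
        ∀ (C : Dual.D A) (u : L ⟶ C) (δ : C ⟶ (shiftFunctor (Dual.D A) (1 : ℤ)).obj L),
        Triangle.mk (f ^ n • 𝟙 L) u δ ∈ distinguishedTriangles → ∀ T' : Dual.D A,
        (∀ g ∈ s, ∃ m : ℕ, g ^ m • 𝟙 T' = 0) → Bij adj T' C := by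
      intro L hL C u δ hTr T' hT'
      refine ih ((Finset.subset_insert f r).trans hsub) C (fun g hg hgr i => ?_) T' hT'
      by_cases hgf : g = f
      · subst hgf
        refine ⟨n + n, fun x => ?_⟩
        rw [pow_add]
        refine smul_cone_HD hTr i _ _ (fun y hy => ?_) (fun y => ?_) x
        · change ((HF (i + 1)).map (g ^ n • 𝟙 L)).hom y = 0 at hy
          exact (HF_map_smul_id (g ^ n) L (i + 1) y).symm.trans hy
        · change ((HF i).map u).hom (g ^ n • y) = 0
          have h0 := comp_distTriang_mor_zero₁₂ _ hTr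
          change (g ^ n • 𝟙 L) ≫ u = 0 at h0
          have hc : (HF i).map (g ^ n • 𝟙 L) ≫ (HF i).map u = 0 :=
            ((HF i).map_comp _ _).symm.trans ((congrArg (HF i).map h0).trans ((HF i).map_zero _ _))
          have h1 : ((HF i).map u).hom (((HF i).map (g ^ n • 𝟙 L)).hom y) = 0 :=
            ConcreteCategory.congr_hom hc y
          exact (congrArg ((HF i).map u).hom (HF_map_smul_id (g ^ n) L i y)).symm.trans h1
      · have hg' : g ∉ insert f r := by simp [hgf, hgr]
        obtain ⟨m₁, h₁⟩ := hL g hg hg' (i + 1)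
        obtain ⟨m₂, h₂⟩ := hL g hg hg' i
        refine ⟨m₁ + m₂, fun x => ?_⟩
        rw [pow_add]
        exact smul_cone_HD hTr i _ _ (fun y _ => h₁ y) (fun y => (congrArg _ (h₂ y)).trans (map_zero _)) x
    have hzero : ∀ {X Y : Dual.D A} (x : X ⟶ Y), f ^ n • 𝟙 X = 0 → f ^ n • x = 0 := fun x hx => by
      have := congrArg (· ≫ x) hx
      simpa using this
    -- injectivity, for all objects
    have hinj : ∀ L : Dual.D A, (∀ g ∈ s, g ∉ insert f r → ∀ i, ∃ m : ℕ, ∀ x : Dual.HD A L i, g ^ m • x = 0) →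
        ∀ T' : Dual.D A, (∀ g ∈ s, ∃ m : ℕ, g ^ m • 𝟙 T' = 0) → f ^ n • 𝟙 T' = 0 →
        ∀ x : T' ⟶ L, x ≫ adj.unit.app L = 0 → x = 0 := by
      intro L hL T' hT' hnT' x hx
      obtain ⟨C, u, δ, hTr⟩ := distinguished_cocone_triangle (f ^ n • 𝟙 L)
      have h1 : (x ≫ u) ≫ adj.unit.app C = 0 := by
        rw [Category.assoc, show u ≫ adj.unit.app C = adj.unit.app L ≫ (extD A B ⋙ resD A B).map u from
          adj.unit.naturality u, ← Category.assoc, hx, zero_comp]
      have h2 : x ≫ u = 0 := (step L hL C u δ hTr T' hT').1 (h1.trans zero_comp.symm)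
      obtain ⟨y, hy⟩ := Triangle.coyoneda_exact₂ _ hTr x h2
      rw [hy]
      exact (Linear.comp_smul (R := A) _ _ _ y (f ^ n) (𝟙 L)).trans ((hzero _ hnT'))
    refine ⟨fun x x' hxx => sub_eq_zero.1 (hinj K hK T hT hn _ (by
      rw [Preadditive.sub_comp, sub_eq_zero]; exact hxx)), fun y => ?_⟩
    obtain ⟨C, u, δ, hTr⟩ := distinguished_cocone_triangle (f ^ n • 𝟙 K)
    obtain ⟨z, hz⟩ := (step K hK C u δ hTr T hT).2 (y ≫ (G (A := A) (B := B)).map u)
    change z ≫ adj.unit.app C = y ≫ (G (A := A) (B := B)).map u at hz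
    have hK1 : ∀ g ∈ s, g ∉ insert f r → ∀ i, ∃ m : ℕ,
        ∀ x : Dual.HD A ((shiftFunctor (Dual.D A) (1 : ℤ)).obj K) i, g ^ m • x = 0 := fun g hg hg' i => by
      obtain ⟨m, hm⟩ := hK g hg hg' (1 + i)
      let e := (HFShiftIso K 1 i (1 + i) rfl).toLinearEquiv
      exact ⟨m, fun x => e.injective (by rw [map_smul, hm, map_zero])⟩
    have hw : z ≫ δ = 0 := hinj _ hK1 T hT hn _ (by
      rw [Category.assoc, show δ ≫ adj.unit.app _ = adj.unit.app C ≫ (G (A := A) (B := B)).map δ from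
        adj.unit.naturality δ, ← Category.assoc, hz, Category.assoc, ← Functor.map_comp,
        show u ≫ δ = 0 from comp_distTriang_mor_zero₂₃ _ hTr, Functor.map_zero, comp_zero])
    obtain ⟨x, hx⟩ := Triangle.coyoneda_exact₃ _ hTr z hw
    change z = x ≫ u at hx
    let x' : T ⟶ K := x
    have hn' : (x' ≫ adj.unit.app K - y) ≫ (G (A := A) (B := B)).map u = 0 := by
      rw [Preadditive.sub_comp, sub_eq_zero]
      calc (x' ≫ adj.unit.app K) ≫ (G (A := A) (B := B)).map u
          = x' ≫ u ≫ adj.unit.app C :=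
            (Category.assoc _ _ _).trans (congrArg (x' ≫ ·) (adj.unit.naturality u).symm)
        _ = z ≫ adj.unit.app C := (Category.assoc _ _ _).symm.trans (congrArg (· ≫ adj.unit.app C) hx.symm)
        _ = _ := hz
    obtain ⟨v, hv⟩ := Triangle.coyoneda_exact₂ _ ((G (A := A) (B := B)).map_distinguished _ hTr) _ hn'
    refine ⟨x', sub_eq_zero.1 (hv.trans ?_)⟩
    exact (congrArg (v ≫ ·) (G_map_smul_id (f ^ n) K)).trans
      ((Linear.comp_smul (R := A) _ _ _ v (f ^ n) (𝟙 _)).trans (hzero _ hn))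

theorem killed_sgl {N : ModuleCat.{u} A} {a : A} (hN : ∀ x : N, a • x = 0) (i : ℤ) :
    a • 𝟙 (DRing.toD (PC.sgl i N)) = 0 := by
  rw [← CategoryTheory.Functor.map_id, ← Functor.map_smul]
  have : a • 𝟙 (PC.sgl i N) = 0 := HomologicalComplex.from_single_hom_ext
    (ModuleCat.hom_ext (LinearMap.ext fun x => by
      change a • x = 0
      refine (HomologicalComplex.singleObjXSelf (ComplexShape.up ℤ) i N).toLinearEquiv.injective ?_
      rw [map_smul, map_zero]
      exact hN _))
  rw [this, Functor.map_zero]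

theorem exists_lift_cycle {E : DRing.Cx A} [E.IsKInjective] {N : ModuleCat.{u} A} (i j : ℤ) (hj : j + 1 = i)
    (hsub : Subsingleton (DRing.toD (PC.sgl i N) ⟶ DRing.toD E)) (v : N →ₗ[A] E.X i)
    (hv : (E.d i (i + 1)).hom ∘ₗ v = 0) : ∃ w : N →ₗ[A] E.X j, (E.d j i).hom ∘ₗ w = v := by
  let g : PC.sgl i N ⟶ E := HomologicalComplex.mkHomFromSingle (ModuleCat.ofHom v)
    (fun k (hk : i + 1 = k) => by subst hk; exact ModuleCat.hom_ext hv)
  obtain ⟨H⟩ := (InjAmp.Q_map_eq_iff_inj g 0).1 (hsub.elim _ _)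
  let σ := HomologicalComplex.singleObjXSelf (ComplexShape.up ℤ) i N
  refine ⟨(σ.inv ≫ H.hom i j).hom, LinearMap.ext fun b => ?_⟩
  have hc := H.comm i
  rw [dNext_eq H.hom (show (ComplexShape.up ℤ).Rel i (i + 1) from rfl),
    prevD_eq H.hom (show (ComplexShape.up ℤ).Rel j i from hj),
    HomologicalComplex.single_obj_d, zero_comp, zero_add, HomologicalComplex.zero_f, add_zero] at hc
  rw [show g.f i = σ.hom ≫ ModuleCat.ofHom v from HomologicalComplex.mkHomFromSingle_f _ _,
    ← σ.eq_inv_comp] at hc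
  exact (LinearMap.congr_fun (congrArg ModuleCat.Hom.hom hc) b).symm

/-- a torsion module is glued from its pieces killed by powers of `I` -/
theorem subsingleton_hom_of_torsion (I : Ideal A) (X : Dual.D A)
    (hX : ∀ (N : ModuleCat.{u} A) (n : ℕ), (∀ c ∈ I ^ n, ∀ x : N, c • x = 0) → ∀ i : ℤ,
      Subsingleton (DRing.toD (PC.sgl i N) ⟶ X))
    (M : ModuleCat.{u} A) (hM : _root_.LocCoh.IsPowerTorsion I M) :
    Subsingleton (DRing.toD (PC.sgl 0 M) ⟶ X) := by
  obtain ⟨E, hE, hinj, ⟨e⟩⟩ := RGamma.exists_resolution X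
  suffices Subsingleton (DRing.toD (PC.sgl 0 M) ⟶ DRing.toD E) from
    (Iso.homCongr (Iso.refl _) e).subsingleton_congr.1 this
  let Mn : ℕ → Submodule A M := fun n =>
    { carrier := {x | ∀ c ∈ I ^ n, c • x = 0}
      zero_mem' := fun c _ => smul_zero c
      add_mem' := fun hx hy c hc => by rw [smul_add, hx c hc, hy c hc, add_zero]
      smul_mem' := fun a x hx c hc => by rw [smul_comm, hx c hc, smul_zero] }
  have hle : ∀ n, Mn n ≤ Mn (n + 1) := fun n x hx c hc => hx c (Ideal.pow_le_pow_right n.le_succ hc)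
  have hstage : ∀ (n : ℕ) (i j : ℤ), j + 1 = i → ∀ v : Mn n →ₗ[A] E.X i, (E.d i (i + 1)).hom ∘ₗ v = 0 →
      ∃ w : Mn n →ₗ[A] E.X j, (E.d j i).hom ∘ₗ w = v := fun n i j hj v hv =>
    exists_lift_cycle (N := ModuleCat.of A (Mn n)) i j hj
      ((Iso.homCongr (Iso.refl _) e.symm).subsingleton_congr.1
        (hX (ModuleCat.of A (Mn n)) n (fun c hc x => Subtype.ext (x.2 c hc)) i)) v hv
  refine subsingleton_of_forall_eq 0 fun φ => ?_
  obtain ⟨f, rfl⟩ := InjAmp.exists_Q_map_eq_inj φ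
  let v : M →ₗ[A] E.X 0 := ((HomologicalComplex.singleObjXSelf (ComplexShape.up ℤ) 0 M).inv ≫ f.f 0).hom
  have hv : ∀ x, (E.d 0 (0 + 1)).hom (v x) = 0 := fun x => by
    have h : ((HomologicalComplex.singleObjXSelf (ComplexShape.up ℤ) 0 M).inv ≫ f.f 0) ≫ E.d 0 (0 + 1) = 0 := by
      rw [Category.assoc, f.comm, HomologicalComplex.single_obj_d, zero_comp, comp_zero]
    exact ConcreteCategory.congr_hom h x
  let P : ∀ n, (Mn n →ₗ[A] E.X (-1)) → Prop := fun n H => (E.d (-1) 0).hom ∘ₗ H = v ∘ₗ (Mn n).subtype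
  have hbase : ∀ n, ∃ H, P n H := fun n => hstage n 0 (-1) (by norm_num) _ (LinearMap.ext fun x => hv x)
  have hnext : ∀ n (H : Mn n →ₗ[A] E.X (-1)), P n H → ∃ H' : Mn (n + 1) →ₗ[A] E.X (-1),
      P (n + 1) H' ∧ H' ∘ₗ Submodule.inclusion (hle n) = H := by
    intro n H hH
    obtain ⟨H', hH'⟩ := hbase (n + 1)
    obtain ⟨l, hl⟩ := hstage n (-1) (-2) (by norm_num) (H' ∘ₗ Submodule.inclusion (hle n) - H)
      (LinearMap.ext fun x => by
        change (E.d (-1) 0).hom (H' _ - H x) = 0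
        rw [map_sub]
        exact sub_eq_zero.2 ((LinearMap.congr_fun hH' _).trans (LinearMap.congr_fun hH x).symm))
    have : Module.Injective A (E.X (-2)) :=
      (Module.injective_iff_injective_object A _).mpr (inferInstanceAs (Injective (E.X (-2))))
    obtain ⟨l', hl'⟩ := Module.Injective.extension_property A (E.X (-2)) _ _
      (Submodule.inclusion (hle n)) (Submodule.inclusion_injective _) l
    refine ⟨H' - (E.d (-2) (-1)).hom ∘ₗ l', ?_, ?_⟩
    · change (E.d (-1) 0).hom ∘ₗ _ = _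
      refine LinearMap.ext fun x => ?_
      change (E.d (-1) 0).hom (H' x - (E.d (-2) (-1)).hom (l' x)) = _
      rw [map_sub, d_d, sub_zero]
      exact LinearMap.congr_fun hH' x
    · rw [LinearMap.sub_comp, LinearMap.comp_assoc, hl', hl, sub_sub_cancel]
  obtain ⟨H₀, hH₀⟩ := hbase 0
  choose nx hnx using hnext
  let seq : ∀ n, {H : Mn n →ₗ[A] E.X (-1) // P n H} :=
    fun n => Nat.rec ⟨H₀, hH₀⟩ (fun k H => ⟨nx k H.1 H.2, (hnx k H.1 H.2).1⟩) n
  have hmono : ∀ n m, n ≤ m → Mn n ≤ Mn m := fun n m hnm x hx c hc => hx c (Ideal.pow_le_pow_right hnm hc)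
  have hcompat : ∀ n m (hnm : n ≤ m) (x : Mn n),
      (seq m).1 (Submodule.inclusion (hmono n m hnm) x) = (seq n).1 x := by
    intro n m hnm
    induction m, hnm using Nat.le_induction with
    | base => intro x; rfl
    | succ m hm ih =>
      intro x
      exact (LinearMap.congr_fun (hnx m (seq m).1 (seq m).2).2 _).trans (ih x)
  choose N hN using hM
  let H : M → E.X (-1) := fun x => (seq (N x)).1 ⟨x, hN x⟩
  have hH : ∀ n (x : Mn n), H x = (seq n).1 x := fun n x => by
    rw [← hcompat n (max n (N x)) (le_max_left _ _) x]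
    exact (hcompat (N x.1) (max n (N x)) (le_max_right _ _) ⟨x.1, hN x.1⟩).symm
  let Hl : M →ₗ[A] E.X (-1) :=
    { toFun := H
      map_add' := fun x y => by
        obtain ⟨n, hx, hy⟩ : ∃ n, x ∈ Mn n ∧ y ∈ Mn n :=
          ⟨max (N x) (N y), hmono _ _ (le_max_left _ _) (hN x), hmono _ _ (le_max_right _ _) (hN y)⟩
        rw [show H x = _ from hH n ⟨x, hx⟩, show H y = _ from hH n ⟨y, hy⟩,
          show H (x + y) = _ from hH n ⟨x + y, add_mem hx hy⟩, ← map_add]
        rfl
      map_smul' := fun a x => by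
        rw [show H x = _ from hH (N x) ⟨x, hN x⟩, show H (a • x) = _ from hH (N x) ⟨a • x, Submodule.smul_mem _ a (hN x)⟩]
        exact map_smul (seq (N x)).1 a ⟨x, hN x⟩ }
  have hd : (E.d (-1) 0).hom ∘ₗ Hl = v := LinearMap.ext fun x =>
    LinearMap.congr_fun (seq (N x)).2 ⟨x, hN x⟩
  rw [← Functor.map_zero (Q (C := ModuleCat.{u} A)), InjAmp.Q_map_eq_iff_inj]
  let hom : ∀ i j, (ComplexShape.up ℤ).Rel j i → ((PC.sgl 0 M).X i ⟶ E.X j) := fun i j (hij : j + 1 = i) =>
    if hi : i = 0 then (HomologicalComplex.singleObjXIsoOfEq (ComplexShape.up ℤ) 0 M i hi).hom ≫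
      ModuleCat.ofHom Hl ≫ (E.XIsoOfEq (show -1 = j by omega)).hom else 0
  suffices f = Homotopy.nullHomotopicMap' hom from ⟨this ▸ Homotopy.nullHomotopy' hom⟩
  refine HomologicalComplex.from_single_hom_ext ?_
  rw [Homotopy.nullHomotopicMap'_f (show (ComplexShape.up ℤ).Rel (-1) 0 from rfl)
    (show (ComplexShape.up ℤ).Rel 0 1 from rfl), HomologicalComplex.single_obj_d, zero_comp, zero_add,
    ← cancel_epi (HomologicalComplex.singleObjXSelf (ComplexShape.up ℤ) 0 M).inv]
  refine ModuleCat.hom_ext (LinearMap.ext fun x => ?_)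
  simp only [hom, dif_pos]
  exact (LinearMap.congr_fun hd x).symm

/-- bijectivity for torsion modules -/
theorem bij_of_torsion (hadj : ∀ P : DRing.Cx A, QuasiIso (unitCx A B P) → IsIso (adj.unit.app (DRing.toD P)))
    {I : Ideal A} (hI : I.FG) (h : GlueHyp (B := B) I) (M : ModuleCat.{u} A)
    (hM : _root_.LocCoh.IsPowerTorsion I M) (K : Dual.D A) : Bij adj (DRing.toD (PC.sgl 0 M)) K := by
  obtain ⟨s, rfl⟩ := hI
  have hbij : ∀ T : Dual.D A, (∀ g ∈ s, ∃ n : ℕ, g ^ n • 𝟙 T = 0) → Bij adj T K := fun T hT =>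
    bij_of_killed hadj s h s subset_rfl K (fun g hg hg' => absurd hg hg') T hT
  obtain ⟨Z, u, δ, hTr⟩ := distinguished_cocone_triangle (adj.unit.app K)
  have hkill : ∀ T : Dual.D A, (∀ g ∈ s, ∃ n : ℕ, g ^ n • 𝟙 T = 0) → ∀ z : T ⟶ Z, z = 0 := by
    intro T hT z
    have hw : z ≫ δ = 0 := injective_shift (hbij _ fun g hg => (hT g hg).imp fun n hn => killed_shift hn _) _
      ((Category.assoc _ _ _).trans ((congrArg (z ≫ ·) (comp_distTriang_mor_zero₃₁ _ hTr)).trans comp_zero))
    obtain ⟨y, hy⟩ := Triangle.coyoneda_exact₃ _ hTr z hw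
    obtain ⟨x, rfl⟩ := (hbij T hT).2 y
    exact hy.trans ((Category.assoc _ _ _).trans
      ((congrArg (x ≫ ·) (comp_distTriang_mor_zero₁₂ _ hTr)).trans comp_zero))
  have hN : ∀ (N : ModuleCat.{u} A) (n : ℕ), (∀ c ∈ Ideal.span (s : Set A) ^ n, ∀ x : N, c • x = 0) →
      ∀ i : ℤ, ∀ g ∈ s, ∃ m : ℕ, g ^ m • 𝟙 (DRing.toD (PC.sgl i N)) = 0 :=
    fun N n hn i g hg => ⟨n, killed_sgl (hn _ (Ideal.pow_mem_pow (Ideal.subset_span hg) n)) i⟩
  have h0 := subsingleton_hom_of_torsion _ Z
    (fun N n hn i => subsingleton_of_forall_eq 0 (hkill _ (hN N n hn i))) M hM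
  have h1 := subsingleton_hom_of_torsion _ ((shiftFunctor (Dual.D A) (-1 : ℤ)).obj Z)
    (fun N n hn i => subsingleton_of_forall_eq 0 fun z => by
      refine (shiftFunctor (Dual.D A) (1 : ℤ)).map_injective ((cancel_mono
        ((shiftFunctorCompIsoId (Dual.D A) (-1 : ℤ) 1 (by norm_num)).app Z).hom).1 ?_)
      rw [Functor.map_zero, zero_comp]
      exact hkill _ (fun g hg => (hN N n hn i g hg).imp fun m hm => killed_shift hm _) _) M hM
  refine ⟨fun x x' hxx => sub_eq_zero.1 ?_, fun y => ?_⟩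
  · obtain ⟨k, hk⟩ := Triangle.coyoneda_exact₂ _ (inv_rot_of_distTriang _ hTr) (x - x') (by
      change (x - x') ≫ adj.unit.app K = 0
      rw [Preadditive.sub_comp, sub_eq_zero]
      exact hxx)
    exact hk.trans ((congrArg (· ≫ _) (h1.elim k 0)).trans zero_comp)
  · obtain ⟨x, hx⟩ := Triangle.coyoneda_exact₂ _ hTr y (h0.elim _ _)
    exact ⟨x, hx.symm⟩

/-- Hom groups for torsion modules -/
theorem nonempty_homEquiv {I : Ideal A} (hI : I.FG) (h : GlueHyp (B := B) I) (M N : ModuleCat.{u} A)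
    (hM : _root_.LocCoh.IsPowerTorsion I M) (i : ℤ) :
    Nonempty (((singleFunctor (ModuleCat.{u} A) 0).obj M ⟶ ((singleFunctor (ModuleCat.{u} A) 0).obj N)⟦i⟧) ≃+
      ((singleFunctor (ModuleCat.{u} B) 0).obj (tens B M) ⟶ ((singleFunctor (ModuleCat.{u} B) 0).obj (tens B N))⟦i⟧)) := by
  obtain ⟨adj, hadj⟩ := exists_adjunction A B
  obtain ⟨t⟩ := HDIBaseChange.nonempty_extT_iso (A := A) (B := B)
  let K : Dual.D A := ((singleFunctor (ModuleCat.{u} A) 0).obj N)⟦i⟧
  let eM : (extD A B).obj ((singleFunctor (ModuleCat.{u} A) 0).obj M) ≅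
      (singleFunctor (ModuleCat.{u} B) 0).obj (tens B M) :=
    ((ext' (A := A) (B := B)).mapDerivedCategorySingleFunctor 0).app M ≪≫
      (singleFunctor (ModuleCat.{u} B) 0).mapIso (t.app M).symm
  let eN : (extD A B).obj K ≅ ((singleFunctor (ModuleCat.{u} B) 0).obj (tens B N))⟦i⟧ :=
    ((extD A B).commShiftIso i).app _ ≪≫ (shiftFunctor (Dual.D B) i).mapIso
      (((ext' (A := A) (B := B)).mapDerivedCategorySingleFunctor 0).app N ≪≫
        (singleFunctor (ModuleCat.{u} B) 0).mapIso (t.app N).symm)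
  let e1 : ((singleFunctor (ModuleCat.{u} A) 0).obj M ⟶ K) ≃+
      ((singleFunctor (ModuleCat.{u} A) 0).obj M ⟶ (extD A B ⋙ resD A B).obj K) :=
    AddEquiv.ofBijective (Preadditive.rightComp _ (adj.unit.app K)) (bij_of_torsion hadj hI h M hM K)
  exact ⟨(e1.trans (adj.homAddEquiv _ _).symm).trans
    { toEquiv := Iso.homCongr eM eN
      map_add' := fun x y => by simp [Preadditive.comp_add, Preadditive.add_comp] }⟩

end Groth.Agent.LocCoh.TorsionExt
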